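import Groth.Agent.RelVALib.Core
import Groth.Agent.RelVALib.Immersion
import Groth.Agent.ProjUPLib.Sec

/-!
# Morphisms to projective space through which an immersion by sections factors
-/

set_option autoImplicit false
set_option backward.isDefEq.respectTransparency false
set_option backward.isDefEq.respectTransparency.types false
set_option linter.style.haveILetI false
set_option maxHeartbeats 1000000

universe u

open CategoryTheory CategoryTheory.Limits AlgebraicGeometry TopologicalSpace Opposite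
open Groth.Agent.PullbackMod Groth.Agent.DCohLib Groth.Agent.ParaFLib Groth.Agent.AmpleLib Groth.Agent.RelVALib

noncomputable section

namespace Groth.Agent.RelVADescLib

variable {X Q W : Scheme.{u}} {n : ℕ}

/-- Two morphisms to projective space with the same pullbacks of the ratios of coordinates agree. -/
theorem hom_ext_of_ratios (h h' : X ⟶ CohB1.ProjSpace n (ULift.{u} ℤ)) (V : Fin (n + 1) → X.Opens)
    (hV : ∀ x, ∃ a, x ∈ V a) (e : ∀ a, V a ≤ h ⁻¹ᵁ AmpleEmb.stdOpen n (ULift.{u} ℤ) a)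
    (e' : ∀ a, V a ≤ h' ⁻¹ᵁ AmpleEmb.stdOpen n (ULift.{u} ℤ) a)
    (heq : ∀ a b, h.appLE _ (V a) (e a) (AmpleEmb.coordRatio n (ULift.{u} ℤ) a b) =
      h'.appLE _ (V a) (e' a) (AmpleEmb.coordRatio n (ULift.{u} ℤ) a b)) : h = h' := by
  refine (X.openCoverOfIsOpenCover V (eq_top_iff.2 fun x _ => Opens.mem_iSup.2 (hV x))).hom_ext _ _ fun a => ?_
  show (V a).ι ≫ h = (V a).ι ≫ h'
  have hhom : h.appLE _ (V a) (e a) = h'.appLE _ (V a) (e' a) := by
    ext z
    exact mem_of_forall_coordRatio_mem a (RingHom.eqLocus (h.appLE _ (V a) (e a)).hom (h'.appLE _ (V a) (e' a)).hom)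
      (heq a) z
  haveI : IsAffine (AmpleEmb.stdOpen n (ULift.{u} ℤ) a).toScheme := AmpleEmb.isAffineOpen_stdOpen n _ a
  haveI : IsIso (AmpleEmb.stdOpen n (ULift.{u} ℤ) a).toSpecΓ :=
    by rw [← (AmpleEmb.isAffineOpen_stdOpen n (ULift.{u} ℤ) a).isoSpec_hom]; infer_instance
  rw [← Scheme.Hom.resLE_comp_ι h (e a), ← Scheme.Hom.resLE_comp_ι h' (e' a)]
  congr 1
  rw [← cancel_mono (AmpleEmb.stdOpen n (ULift.{u} ℤ) a).toSpecΓ, ← Scheme.Opens.toSpecΓ_SpecMap_appLE,
    ← Scheme.Opens.toSpecΓ_SpecMap_appLE, hhom]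

theorem isRatio_unique {P : X.Modules} (hP : PicF.IsInvertible P) {s s' : Coh.structureModule X ⟶ P}
    {V : X.Opens} (hV : V ≤ CohB1.genLocus P s) {r r' : Γ(X, V)} (h : IsRatio s s' r) (h' : IsRatio s s' r') :
    r = r' := by
  have hg : Gen V (resT (sec s) V) := by
    have := (AmpleEmb.gen_genLocus hP s).res hV
    rwa [resT, res_res] at this
  refine (hg _ le_rfl).1 ?_
  simp only [ParaFLib.res_self]
  exact h.trans h'.symm

/-- The coordinate sections of `P^n` over a scheme. -/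
abbrev coordOver (n : ℕ) (W : Scheme.{u}) (a : Fin (n + 1)) :
    Coh.structureModule (CohB1.ProjSpaceOver n W) ⟶ Twist.twistOver n W 1 :=
  pullSec (ProjMap.toInt W n) (AmpleEmb.coordSec n (ULift.{u} ℤ) a)

theorem genLocus_coordPull (i : X ⟶ CohB1.ProjSpaceOver n W) (a : Fin (n + 1)) :
    CohB1.genLocus _ (coordPull i a) = i ⁻¹ᵁ AmpleEmb.overOpen a :=
  (genLocus_pullSec i (AmpleEmb.isInvertible_twistOver (Y := W) n) _).trans (congrArg (i ⁻¹ᵁ ·)
    ((genLocus_pullSec _ (AmpleEmb.isInvertible_twistOne n (ULift.{u} ℤ)) _).trans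
      (congrArg (ProjMap.toInt W n ⁻¹ᵁ ·) (AmpleEmb.genLocus_coordSec n _ a))))

theorem isRatio_coordPull (i : X ⟶ CohB1.ProjSpaceOver n W) (a b : Fin (n + 1)) {V : X.Opens}
    (e : V ≤ (i ≫ ProjMap.toInt W n) ⁻¹ᵁ AmpleEmb.stdOpen n (ULift.{u} ℤ) a) :
    IsRatio (coordPull i a) (coordPull i b)
      ((i ≫ ProjMap.toInt W n).appLE _ V e (AmpleEmb.coordRatio n (ULift.{u} ℤ) a b)) := by
  have h := isRatio_pullSec i (U := AmpleEmb.overOpen a) (U' := V) (fun x hx => e hx) (isRatio_pullSec (ProjMap.toInt W n)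
    (U' := AmpleEmb.overOpen a) le_rfl (AmpleEmb.coordRatio_smul n (ULift.{u} ℤ) a b))
  rw [← ConcreteCategory.comp_apply, Scheme.Hom.appLE_comp_appLE] at h
  exact h

/-- A morphism is an immersion when sections of an invertible module on its target pull back to the
coordinates of an immersion in projective space. -/
theorem isImmersion_of_sections (i : X ⟶ CohB1.ProjSpaceOver n W) [IsImmersion i] (φ : X ⟶ Q) (p : Q ⟶ W)
    (hp : φ ≫ p = i ≫ CohB1.ProjSpaceOver.toBase n W) {M : Q.Modules} (hM : PicF.IsInvertible M)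
    (ℓ : Fin (n + 1) → (Coh.structureModule Q ⟶ M))
    (θ : (Scheme.Modules.pullback φ).obj M ≅ (Scheme.Modules.pullback i).obj (Twist.twistOver n W 1))
    (hθ : ∀ a, sec (coordPull i a) = θ.hom.app ⊤ (sec (pullSec φ (ℓ a)))) : IsImmersion φ := by
  have hPi := isInvertible_pullback i (AmpleEmb.isInvertible_twistOver (Y := W) n)
  have hPφ := isInvertible_pullback φ hM
  have hθ1 : ∀ a, sec (coordPull i a) = (1 : Γ(X, ⊤)) • θ.hom.app ⊤ (sec (pullSec φ (ℓ a))) := fun a =>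
    (hθ a).trans (one_smul _ _).symm
  have hloc : ∀ a, i ⁻¹ᵁ AmpleEmb.overOpen a = φ ⁻¹ᵁ CohB1.genLocus M (ℓ a) := fun a =>
    (genLocus_coordPull i a).symm.trans
      ((genLocus_smul_app hPφ hPi θ isUnit_one (hθ1 a)).trans (genLocus_pullSec φ hM (ℓ a)))
  have hcovX : ∀ x, ∃ a, x ∈ i ⁻¹ᵁ AmpleEmb.overOpen a := fun x => by
    obtain ⟨a, ha⟩ :=
      Opens.mem_iSup.1 ((AmpleEmb.iSup_stdOpen n (ULift.{u} ℤ)).ge (Opens.mem_top (ProjMap.toInt W n (i x))))
    exact ⟨a, ha⟩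
  let U : Q.Opens := ⨆ a, CohB1.genLocus M (ℓ a)
  have hcov : ∀ x : U.toScheme, ∃ a, x ∈ CohB1.genLocus _ (pullSec U.ι (ℓ a)) := fun x => by
    obtain ⟨a, ha⟩ := Opens.mem_iSup.1 x.2
    exact ⟨a, (genLocus_pullSec U.ι hM (ℓ a)).ge ha⟩
  obtain ⟨F, hFU, -, hFt⟩ := GenMorph.exists_ratioFamily (isInvertible_pullback U.ι hM)
    (fun a => pullSec U.ι (ℓ a)) hcov
  have hsub : Set.range φ ⊆ Set.range U.ι := by
    rintro _ ⟨x, rfl⟩
    rw [Scheme.Opens.range_ι]
    obtain ⟨a, ha⟩ := hcovX x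
    exact Opens.mem_iSup.2 ⟨a, (hloc a).le ha⟩
  let φU : X ⟶ U.toScheme := IsOpenImmersion.lift U.ι φ hsub
  have hφU : φU ≫ U.ι = φ := IsOpenImmersion.lift_fac _ _ _
  let π : U.toScheme ⟶ CohB1.ProjSpaceOver n W :=
    ProjMap.liftOver (GenMorph.toProj (AmpleEmb.intConst U.toScheme) F) (U.ι ≫ p)
  have hπ : φU ≫ π = i := by
    refine ProjMap.over_hom_ext ?_ ?_
    · rw [Category.assoc, ProjMap.liftOver_toInt]
      have hVF : ∀ a, i ⁻¹ᵁ AmpleEmb.overOpen a ≤ φU ⁻¹ᵁ F.U a := fun a => by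
        rw [hFU, genLocus_pullSec U.ι hM]
        intro x hx
        show U.ι (φU x) ∈ CohB1.genLocus M (ℓ a)
        rw [← Scheme.Hom.comp_apply, hφU]
        exact (hloc a).le hx
      refine hom_ext_of_ratios _ _ (fun a => i ⁻¹ᵁ AmpleEmb.overOpen a) hcovX
        (fun a => (hVF a).trans (φU.preimage_mono (GenMorph.le_preimage_stdOpen _ F a)))
        (fun a => le_rfl) fun a b => ?_
      rw [← Scheme.Hom.appLE_comp_appLE φU _ _ (F.U a) _ (GenMorph.le_preimage_stdOpen _ F a) (hVF a),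
        ConcreteCategory.comp_apply, GenMorph.toProj_appLE_ratio]
      obtain ⟨T, hT⟩ := ((AmpleEmb.gen_genLocus hM (ℓ a)) _ le_rfl).2 (resT (sec (ℓ b)) (CohB1.genLocus M (ℓ a)))
      simp only [ParaFLib.res_self] at hT
      have hFT : F.U a ≤ U.ι ⁻¹ᵁ CohB1.genLocus M (ℓ a) := by rw [hFU, genLocus_pullSec U.ι hM]
      have ht : F.t a b = U.ι.appLE _ (F.U a) hFT T :=
        isRatio_unique (isInvertible_pullback U.ι hM) (hFU a).le (hFt a b) (isRatio_pullSec U.ι hFT hT)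
      rw [ht, ← ConcreteCategory.comp_apply, Scheme.Hom.appLE_comp_appLE]
      have hR' : ∀ (ψ : X ⟶ Q) (_ : ψ = φ) (e : i ⁻¹ᵁ AmpleEmb.overOpen a ≤ ψ ⁻¹ᵁ CohB1.genLocus M (ℓ a)),
          IsRatio (pullSec φ (ℓ a)) (pullSec φ (ℓ b)) (ψ.appLE _ _ e T) := fun ψ h e => by
        subst h
        exact isRatio_pullSec ψ e hT
      have hR : IsRatio (pullSec φ (ℓ a)) (pullSec φ (ℓ b))
          ((φU ≫ U.ι).appLE _ (i ⁻¹ᵁ AmpleEmb.overOpen a) (fun x hx => hFT (hVF a hx)) T) :=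
        hR' _ hφU _
      exact isRatio_unique hPi (genLocus_coordPull i a).ge
        ((isRatio_smul_app θ isUnit_one (hθ1 a) (hθ1 b) _).2 hR) (isRatio_coordPull i a b le_rfl)
    · rw [Category.assoc, ProjMap.liftOver_toBase, ← Category.assoc, hφU, hp]
  haveI : IsImmersion (φU ≫ π) := by rw [hπ]; infer_instance
  haveI : IsImmersion φU := IsImmersion.of_comp φU π
  rw [← hφU]
  infer_instance

/-- The morphism given by generating sections pulls the coordinates back to the sections. -/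
theorem exists_iso_coords (φ : X ⟶ CohB1.ProjSpaceOver n W) {L : X.Modules} (hL : PicF.IsInvertible L)
    (s : Fin (n + 1) → (Coh.structureModule X ⟶ L))
    (hloc : ∀ k, CohB1.genLocus L (s k) = φ ⁻¹ᵁ AmpleEmb.overOpen k)
    (hrat : ∀ k l (e : φ ⁻¹ᵁ AmpleEmb.overOpen k ≤
        (φ ≫ ProjMap.toInt W n) ⁻¹ᵁ AmpleEmb.stdOpen n (ULift.{u} ℤ) k),
      IsRatio (s k) (s l) ((φ ≫ ProjMap.toInt W n).appLE _ (φ ⁻¹ᵁ AmpleEmb.overOpen k) e
        (AmpleEmb.coordRatio n (ULift.{u} ℤ) k l))) :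
    ∃ ψ : (Scheme.Modules.pullback φ).obj (Twist.twistOver n W 1) ≅ L,
      ∀ k, ψ.hom.app ⊤ (sec (coordPull φ k)) = sec (s k) := by
  let U : ULift.{u} (Fin (n + 1)) → X.Opens := fun k => φ ⁻¹ᵁ AmpleEmb.overOpen k.down
  let r : ∀ k : ULift.{u} (Fin (n + 1)), Fin (n + 1) → Γ(X, U k) := fun k l =>
    (φ ≫ ProjMap.toInt W n).appLE _ (U k) le_rfl (AmpleEmb.coordRatio n (ULift.{u} ℤ) k.down l)
  have hP := isInvertible_pullback φ (AmpleEmb.isInvertible_twistOver (Y := W) n)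
  have hU : iSup U = ⊤ := eq_top_iff.2 fun x _ => by
    obtain ⟨a, ha⟩ :=
      Opens.mem_iSup.1 ((AmpleEmb.iSup_stdOpen n (ULift.{u} ℤ)).ge (Opens.mem_top (ProjMap.toInt W n (φ x))))
    exact Opens.mem_iSup.2 ⟨⟨a⟩, ha⟩
  have hgC : ∀ k, Gen (U k) (resT (sec (coordPull φ k.down)) (U k)) := fun k => by
    have := (AmpleEmb.gen_genLocus hP (coordPull φ k.down)).res (genLocus_coordPull φ k.down).ge
    rwa [resT, res_res] at this
  have hgS : ∀ k, Gen (U k) (resT (sec (s k.down)) (U k)) := fun k => by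
    have := (AmpleEmb.gen_genLocus hL (s k.down)).res (hloc k.down).ge
    rwa [resT, res_res] at this
  have hrC : ∀ (k : ULift.{u} (Fin (n + 1))) l, IsRatio (coordPull φ k.down) (coordPull φ l) (r k l) :=
    fun k l => isRatio_coordPull φ k.down l le_rfl
  have hrS : ∀ (k : ULift.{u} (Fin (n + 1))) l, IsRatio (s k.down) (s l) (r k l) :=
    fun k l => hrat k.down l le_rfl
  clear_value r U
  have hη : ∀ {P : X.Modules} (c : Fin (n + 1) → (Coh.structureModule X ⟶ P)),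
      (∀ (k : ULift.{u} (Fin (n + 1))) l, IsRatio (c k.down) (c l) (r k l)) → ∀ i j,
        P.presheaf.map (homOfLE (inf_le_left : U i ⊓ U j ≤ U i)).op (resT (sec (c i.down)) (U i)) =
          X.presheaf.map (homOfLE (inf_le_right : U i ⊓ U j ≤ U j)).op (r j i.down) •
            P.presheaf.map (homOfLE (inf_le_right : U i ⊓ U j ≤ U j)).op (resT (sec (c j.down)) (U j)) := by
    intro P c hc i j
    have h := congrArg (P.presheaf.map (homOfLE (inf_le_right : U i ⊓ U j ≤ U j)).op) (hc j i.down)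
    rw [Scheme.Modules.map_smul] at h
    simp only [resT, res_res] at h ⊢
    exact h.symm
  let P : X.Modules := (Scheme.Modules.pullback φ).obj (Twist.twistOver n W 1)
  let c : Fin (n + 1) → (Coh.structureModule X ⟶ P) := fun k => coordPull φ k
  let sC : ∀ k, Γ(P, U k) := fun k => resT (sec (c k.down)) (U k)
  let sS : ∀ k, Γ(L, U k) := fun k => resT (sec (s k.down)) (U k)
  have hgC' : ∀ k, Gen (U k) (sC k) := hgC
  have hgS' : ∀ k, Gen (U k) (sS k) := hgS
  have key := ProjUPLib.exists_iso_of_bases (L := P) (L' := L) (U := U) (s := sC) (t := sS) hU hgC' hgS'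
    (fun i j => X.presheaf.map (homOfLE (inf_le_right : U i ⊓ U j ≤ U j)).op (r j i.down))
    (hη c hrC) (hη s hrS)
  obtain ⟨ψ, hψ⟩ := key
  refine ⟨ψ, fun k => ?_⟩
  refine TopCat.Sheaf.eq_of_locally_eq' (⟨L.presheaf, L.isSheaf⟩ : TopCat.Sheaf Ab X) U ⊤
    (fun j => homOfLE le_top) hU.ge _ _ fun j => ?_
  show L.presheaf.map (homOfLE (le_top : U j ≤ ⊤)).op (ψ.hom.app ⊤ (sec (coordPull φ k))) = resT (sec (s k)) (U j)
  rw [← DCohLib.app_natural ψ.hom le_top]
  show ψ.hom.app (U j) (resT (sec (coordPull φ k)) (U j)) = resT (sec (s k)) (U j)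
  rw [← (hrC j k : _ = _), Scheme.Modules.Hom.app_smul, hψ j]
  exact hrS j k

end Groth.Agent.RelVADescLib
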