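import Groth.Agent.RelVADescLib.Basic
import Groth.Agent.VecFrameLib.FlatH0
import Groth.Agent.ASp.ImmDescQC

/-!
# Very ampleness descends along a faithfully flat finite family of affine schemes
-/

set_option autoImplicit false
set_option backward.isDefEq.respectTransparency false
set_option backward.isDefEq.respectTransparency.types false
set_option linter.style.haveILetI false
set_option maxHeartbeats 1000000

universe u

open CategoryTheory CategoryTheory.Limits AlgebraicGeometry TopologicalSpace Opposite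
open Groth.Agent.PullbackMod Groth.Agent.DCohLib Groth.Agent.ParaFLib Groth.Agent.AmpleLib Groth.Agent.RelVALib
open scoped TensorProduct

noncomputable section

namespace Groth.Agent.RelVADescLib

variable {X Y : Scheme.{u}}

/-- Sections on a flat affine base change are combinations of pullbacks. -/
theorem exists_finset_lift [IsAffine Y] {f : X ⟶ Y} [CompactSpace X] [QuasiSeparatedSpace X] {W X' : Scheme.{u}}
    [IsAffine W] {w : W ⟶ Y} [Flat w] {k' : X' ⟶ X} {q : X' ⟶ W} (h : IsPullback k' q f w) (L : X.Modules)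
    [Coh.IsQCoh L] (t : Γ((Scheme.Modules.pullback k').obj L, ⊤)) :
    ∃ S : Finset (Γ(W, ⊤) × Γ(L, ⊤)),
      t = ∑ z ∈ S, q.appTop z.1 • pullMap k' L (le_top : (⊤ : X'.Opens) ≤ k' ⁻¹ᵁ ⊤) z.2 := by
  letI : Algebra Γ(Y, ⊤) Γ(W, ⊤) := w.appTop.hom.toAlgebra
  letI : Module Γ(Y, ⊤) Γ(L, ⊤) := Module.compHom _ f.appTop.hom
  obtain ⟨E, hE⟩ := VecFrameLib.exists_equiv_sections h L
  obtain ⟨S, hS⟩ := TensorProduct.exists_finset (E.symm t)
  refine ⟨S, ?_⟩
  rw [← E.apply_symm_apply t, hS, map_sum]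
  exact Finset.sum_congr rfl fun z _ => hE z.1 z.2

variable {L : X.Modules} {N : ℕ}

/-- The morphism of a base change of generating sections pulls the coordinates back to them. -/
theorem exists_iso_lift (hL : PicF.IsInvertible L) (s : Fin (N + 1) → (Coh.structureModule X ⟶ L))
    (F : GenMorph.RatioFamily X N) (hFU : ∀ i, F.U i = CohB1.genLocus L (s i))
    (hFt : ∀ i a, F.t i a • resT (sec (s i)) (F.U i) = resT (sec (s a)) (F.U i))
    {W X' : Scheme.{u}} (k' : X' ⟶ X) (φ : X' ⟶ CohB1.ProjSpaceOver N W)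
    (hφ : φ ≫ ProjMap.toInt W N = k' ≫ GenMorph.toProj (AmpleEmb.intConst X) F) :
    ∃ ψ : (Scheme.Modules.pullback φ).obj (Twist.twistOver N W 1) ≅ (Scheme.Modules.pullback k').obj L,
      ∀ k, ψ.hom.app ⊤ (sec (coordPull φ k)) = sec (pullSec k' (s k)) := by
  have hloc : ∀ k, φ ⁻¹ᵁ AmpleEmb.overOpen k = k' ⁻¹ᵁ F.U k := fun k => by
    show (φ ≫ ProjMap.toInt W N) ⁻¹ᵁ AmpleEmb.stdOpen N (ULift.{u} ℤ) k = _
    rw [hφ, ← GenMorph.preimage_basicOpen (AmpleEmb.intConst X) F k]
    rfl
  refine exists_iso_coords φ (isInvertible_pullback k' hL) (fun k => pullSec k' (s k))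
    (fun k => by rw [genLocus_pullSec k' hL, hloc, hFU]) fun k l e => ?_
  suffices h : ∀ (ψ : X' ⟶ CohB1.ProjSpace N (ULift.{u} ℤ))
      (_ : ψ = k' ≫ GenMorph.toProj (AmpleEmb.intConst X) F)
      (e : φ ⁻¹ᵁ AmpleEmb.overOpen k ≤ ψ ⁻¹ᵁ AmpleEmb.stdOpen N (ULift.{u} ℤ) k),
      IsRatio (pullSec k' (s k)) (pullSec k' (s l))
        (ψ.appLE _ _ e (AmpleEmb.coordRatio N (ULift.{u} ℤ) k l)) from h _ hφ e
  intro ψ hψ e
  subst hψ
  rw [← Scheme.Hom.appLE_comp_appLE k' _ _ (F.U k) _ (GenMorph.le_preimage_stdOpen _ F k) (hloc k).le,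
    ConcreteCategory.comp_apply, GenMorph.toProj_appLE_ratio]
  exact isRatio_pullSec k' (hloc k).le (hFt k l)

/-- When the combinations of generating sections embed a base change, so do the sections. -/
theorem isImmersion_lift (hL : PicF.IsInvertible L) (s : Fin (N + 1) → (Coh.structureModule X ⟶ L))
    (F : GenMorph.RatioFamily X N) (hFU : ∀ i, F.U i = CohB1.genLocus L (s i))
    (hFt : ∀ i a, F.t i a • resT (sec (s i)) (F.U i) = resT (sec (s a)) (F.U i))
    {W X' : Scheme.{u}} (k' : X' ⟶ X) (q : X' ⟶ W) {n : ℕ} (i : X' ⟶ CohB1.ProjSpaceOver n W) [IsImmersion i]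
    (hi : i ≫ CohB1.ProjSpaceOver.toBase n W = q)
    (θ : (Scheme.Modules.pullback k').obj L ≅ (Scheme.Modules.pullback i).obj (Twist.twistOver n W 1))
    (β : Fin (n + 1) → Fin (N + 1) → Γ(W, ⊤))
    (hβ : ∀ a, θ.inv.app ⊤ (sec (coordPull i a)) = ∑ k, q.appTop (β a k) • sec (pullSec k' (s k))) :
    IsImmersion (ProjMap.liftOver (k' ≫ GenMorph.toProj (AmpleEmb.intConst X) F) q) := by
  set φ := ProjMap.liftOver (k' ≫ GenMorph.toProj (AmpleEmb.intConst X) F) q with hφ
  have hφb : φ ≫ CohB1.ProjSpaceOver.toBase N W = q := ProjMap.liftOver_toBase _ _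
  obtain ⟨ψ, hψ⟩ := exists_iso_lift hL s F hFU hFt k' φ (ProjMap.liftOver_toInt _ _)
  let ℓ : Fin (n + 1) → (Coh.structureModule (CohB1.ProjSpaceOver N W) ⟶ Twist.twistOver N W 1) := fun a =>
    DCohLib.secHom _ (∑ k, (CohB1.ProjSpaceOver.toBase N W).appTop (β a k) • sec (coordOver N W k))
  refine isImmersion_of_sections i φ (CohB1.ProjSpaceOver.toBase N W) (by rw [hφb, hi])
    (AmpleEmb.isInvertible_twistOver (Y := W) N) ℓ (ψ ≪≫ θ) fun a => ?_
  have hb' : ∀ (q' : X' ⟶ W) (_ : φ ≫ CohB1.ProjSpaceOver.toBase N W = q') (b : Γ(W, ⊤)),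
      φ.appLE ⊤ ⊤ (fun _ _ => trivial) ((CohB1.ProjSpaceOver.toBase N W).appTop b) = q'.appTop b := by
    rintro _ rfl b
    rw [Scheme.Hom.comp_appTop, ConcreteCategory.comp_apply, Scheme.Hom.appLE]
    exact res_self_ring _ _
  have h1 : ψ.hom.app ⊤ (sec (pullSec φ (ℓ a))) = ∑ k, q.appTop (β a k) • sec (pullSec k' (s k)) := by
    rw [sec_pullSec, sec_secHom, map_sum, map_sum]
    refine Finset.sum_congr rfl fun k _ => ?_
    rw [pullMap_smul, Scheme.Modules.Hom.app_smul, hb' q hφb, ← sec_pullSec, ← hψ k]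
    rfl
  show sec (coordPull i a) = θ.hom.app ⊤ (ψ.hom.app ⊤ (sec (pullSec φ (ℓ a))))
  rw [h1, ← hβ a]
  exact (congr($(θ.inv_hom_id) |>.app ⊤ (sec (coordPull i a)))).symm
where
  res_self_ring {Z : Scheme.{u}} {V : Z.Opens} (h : V ≤ V) (z : Γ(Z, V)) : Z.presheaf.map (homOfLE h).op z = z := by
    rw [show (homOfLE h).op = 𝟙 (op V) from rfl, CategoryTheory.Functor.map_id]
    rfl

/-- Immersion over a coproduct, from the summands. -/
theorem isImmersion_of_sigma (f : X ⟶ Y) {J : Type u} {W : J → Scheme.{u}} (g' : (∐ W) ⟶ Y) (a : X ⟶ CohB1.ProjSpace N (ULift.{u} ℤ))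
    (H : ∀ j, IsImmersion (ProjMap.liftOver (pullback.fst f (Sigma.ι W j ≫ g') ≫ a)
      (pullback.snd f (Sigma.ι W j ≫ g')))) :
    IsImmersion (ProjMap.liftOver (pullback.fst f g' ≫ a) (pullback.snd f g')) := by
  haveI : ∀ j, IsOpenImmersion (overMap N (Sigma.ι W j)) := fun j =>
    MorphismProperty.of_isPullback (isPullback_overMap N (Sigma.ι W j)).flip inferInstance
  have h := IsPullback.of_hasPullback f g'
  refine IsZariskiLocalAtTarget.of_iSup_eq_top (fun j => (overMap N (Sigma.ι W j)).opensRange) ?_ fun j => ?_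
  · refine eq_top_iff.2 fun z _ => ?_
    obtain ⟨j, v, hv⟩ := (sigmaOpenCover W).exists_eq (CohB1.ProjSpaceOver.toBase N (∐ W) z)
    obtain ⟨z', -, hz'⟩ := Scheme.Pullback.exists_preimage_pullback v z
      (f := Sigma.ι W j) (g := CohB1.ProjSpaceOver.toBase N (∐ W)) hv
    refine Opens.mem_iSup.2 ⟨j, ⟨(isPullback_overMap N (Sigma.ι W j)).flip.isoPullback.inv z', ?_⟩⟩
    rw [← Scheme.Hom.comp_apply, IsPullback.isoPullback_inv_snd]
    exact hz'
  · refine (MorphismProperty.arrow_mk_iso_iff @IsImmersion (morphismRestrictOpensRange _ _)).2 ?_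
    let k := h.lift (pullback.fst f (Sigma.ι W j ≫ g')) (pullback.snd f (Sigma.ι W j ≫ g') ≫ Sigma.ι W j)
      (by rw [Category.assoc]; exact pullback.condition)
    have hj : IsPullback k (pullback.snd f (Sigma.ι W j ≫ g')) (pullback.snd f g') (Sigma.ι W j) := by
      refine IsPullback.of_right ?_ (h.lift_snd _ _ _) h
      rw [h.lift_fst]
      exact IsPullback.of_hasPullback f _
    have hsqj := isPullback_liftOver N hj (pullback.fst f g' ≫ a)
    rw [← hsqj.isoPullback_inv_snd]
    haveI : IsImmersion (ProjMap.liftOver (k ≫ pullback.fst f g' ≫ a) (pullback.snd f (Sigma.ι W j ≫ g'))) := by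
      rw [← Category.assoc, h.lift_fst]
      exact H j
    infer_instance

/-- Very ampleness descends along a faithfully flat finite family of affine schemes over an affine base. -/
theorem isRelVeryAmplePn_of_covering [IsAffine Y] (f : X ⟶ Y) [IsSeparated f] [QuasiCompact f]
    (hL : PicF.IsInvertible L) {J : Type u} [Finite J] (W : J → Scheme.{u}) [∀ j, IsAffine (W j)]
    (w : ∀ j, W j ⟶ Y) [∀ j, Flat (w j)] (hsurj : ∀ y : Y, ∃ j z, w j z = y)
    (hva : ∀ j, RelAmple.IsRelVeryAmplePn (pullback.snd f (w j))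
      ((Scheme.Modules.pullback (pullback.fst f (w j))).obj L)) : RelAmple.IsRelVeryAmplePn f L := by
  classical
  haveI : Coh.IsQCoh L := Groth.Agent.InvExt.isQCoh_of_isInvertible hL
  haveI : CompactSpace X := QuasiCompact.compactSpace_of_compactSpace f
  haveI : X.IsSeparated := ⟨by rw [← terminal.comp_from f]; infer_instance⟩
  haveI : QuasiSeparatedSpace X := inferInstanceAs (QuasiSeparatedSpace X)
  choose n i hi hib hθ using hva
  have θ := fun j => (hθ j).some
  have hib' : ∀ j, i j ≫ CohB1.ProjSpaceOver.toBase (n j) (W j) = pullback.snd f (w j) := hib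
  let t : ∀ j, Fin (n j + 1) → Γ((Scheme.Modules.pullback (pullback.fst f (w j))).obj L, ⊤) := fun j a =>
    (θ j).inv.app ⊤ (sec (coordPull (i j) a))
  choose S hS using fun j a => exists_finset_lift (IsPullback.of_hasPullback f (w j)) L (t j a)
  haveI := Fintype.ofFinite J
  -- all the sections used
  let M : Finset Γ(L, ⊤) :=
    insert 0 ((Finset.univ : Finset J).biUnion fun j => Finset.univ.biUnion fun a => (S j a).image Prod.snd)
  obtain ⟨N, hN⟩ : ∃ N, M.card = N + 1 :=
    ⟨M.card - 1, (Nat.sub_add_cancel (Finset.card_pos.2 ⟨0, Finset.mem_insert_self _ _⟩)).symm⟩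
  let e : Fin (N + 1) ≃ M := (finCongr hN.symm).trans M.equivFin.symm
  let s : Fin (N + 1) → (Coh.structureModule X ⟶ L) := fun k => DCohLib.secHom L (e k).1
  let β : ∀ j, Fin (n j + 1) → Fin (N + 1) → Γ(W j, ⊤) := fun j a k =>
    ∑ z ∈ S j a with z.2 = (e k).1, z.1
  have hβ : ∀ j a, t j a =
      ∑ k, (pullback.snd f (w j)).appTop (β j a k) • sec (pullSec (pullback.fst f (w j)) (s k)) := fun j a => by
    rw [hS j a]
    simp only [β, s, sec_pullSec, sec_secHom, map_sum, Finset.sum_smul]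
    rw [e.sum_comp (fun m : M => ∑ z ∈ S j a with z.2 = m.1, (pullback.snd f (w j)).appTop z.1 •
      pullMap (pullback.fst f (w j)) L (le_top : (⊤ : (pullback f (w j)).Opens) ≤ _) m.1),
      Finset.sum_coe_sort M (fun m => ∑ z ∈ S j a with z.2 = m, (pullback.snd f (w j)).appTop z.1 •
        pullMap (pullback.fst f (w j)) L (le_top : (⊤ : (pullback f (w j)).Opens) ≤ _) m)]
    rw [← Finset.sum_fiberwise_of_maps_to (g := Prod.snd) (t := M) fun z hz => ?_]
    · refine Finset.sum_congr rfl fun m _ => Finset.sum_congr rfl fun z hz => ?_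
      rw [(Finset.mem_filter.1 hz).2]
    · exact Finset.mem_insert_of_mem (Finset.mem_biUnion.2 ⟨j, Finset.mem_univ j,
        Finset.mem_biUnion.2 ⟨a, Finset.mem_univ a, Finset.mem_image_of_mem _ hz⟩⟩)
  -- the sections generate
  have hcov : ∀ x, ∃ k, x ∈ CohB1.genLocus L (s k) := fun x => by
    obtain ⟨j, z, hz⟩ := hsurj (f x)
    obtain ⟨x', hx', -⟩ := Scheme.Pullback.exists_preimage_pullback x z hz.symm
    let P := (Scheme.Modules.pullback (pullback.fst f (w j))).obj L
    have hP : PicF.IsInvertible P := isInvertible_pullback _ hL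
    obtain ⟨a, ha⟩ := Opens.mem_iSup.1 ((AmpleEmb.iSup_stdOpen (n j) (ULift.{u} ℤ)).ge
      (Opens.mem_top (ProjMap.toInt (W j) (n j) (i j x'))))
    have ha' : x' ∈ CohB1.genLocus P (DCohLib.secHom P (t j a)) := by
      rw [genLocus_smul_app (isInvertible_pullback _ (AmpleEmb.isInvertible_twistOver (Y := W j) _)) hP
        (θ j).symm isUnit_one (s := coordPull (i j) a) (by rw [sec_secHom, one_smul]; rfl), genLocus_coordPull]
      exact ha
    by_contra hne
    push Not at hne
    obtain ⟨g, hg⟩ := exists_stalk_gen hP x'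
    have hnu : ∀ k, ∃ c ∈ IsLocalRing.maximalIdeal ((pullback f (w j)).presheaf.stalk x'),
        c • g = P.presheaf.germ ⊤ x' trivial (sec (pullSec (pullback.fst f (w j)) (s k))) := fun k => by
      obtain ⟨c, hc⟩ := hg.2 (P.presheaf.germ ⊤ x' trivial (sec (pullSec (pullback.fst f (w j)) (s k))))
      refine ⟨c, fun hu => hne k ?_, hc⟩
      have hmem : x' ∈ CohB1.genLocus P (pullSec (pullback.fst f (w j)) (s k)) := by
        rw [mem_genLocus_iff hP, ← hc]
        exact (bijective_smul_iff hg c).2 hu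
      rw [genLocus_pullSec _ hL] at hmem
      rwa [← hx']
    choose c hcm hc using hnu
    rw [mem_genLocus_iff hP, sec_secHom, hβ j a, map_sum] at ha'
    simp only [germ_smul'] at ha'
    rw [Finset.sum_congr rfl fun k _ => congrArg (_ • ·) (hc k).symm] at ha'
    simp only [smul_smul] at ha'
    simp only [← Finset.mul_sum, ← Finset.sum_smul] at ha'
    exact (Ideal.sum_mem _ fun k _ => Ideal.mul_mem_left _ _ (hcm k)) ((bijective_smul_iff hg _).1 ha')
  obtain ⟨F, hFU, -, hFt⟩ := GenMorph.exists_ratioFamily hL s hcov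
  let a₀ := GenMorph.toProj (AmpleEmb.intConst X) F
  let φ := ProjMap.liftOver a₀ f
  haveI : QuasiCompact (φ ≫ CohB1.ProjSpaceOver.toBase N Y) := by
    rw [ProjMap.liftOver_toBase]; infer_instance
  haveI : QuasiCompact φ := QuasiCompact.of_comp φ (CohB1.ProjSpaceOver.toBase N Y)
  -- descend from the coproduct of the family
  let g : (∐ W) ⟶ Y := Sigma.desc w
  haveI : IsAffine (∐ W) := inferInstance
  haveI : Flat g := IsZariskiLocalAtSource.sigmaDesc fun j => inferInstance
  haveI : Surjective g := ⟨fun y => by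
    obtain ⟨j, z, hz⟩ := hsurj y
    exact ⟨Sigma.ι W j z, by rw [← Scheme.Hom.comp_apply, Sigma.ι_desc]; exact hz⟩⟩
  haveI : QuasiCompact g := inferInstance
  let h := IsPullback.of_hasPullback f g
  let φP := ProjMap.liftOver (pullback.fst f g ≫ a₀) (pullback.snd f g)
  have hsq := isPullback_liftOver N h a₀
  haveI : IsImmersion φP :=
    isImmersion_of_sigma f g a₀ fun j => by
      haveI := hi j
      have key : ∀ (w' : W j ⟶ Y), w' = w j → IsImmersion (ProjMap.liftOver (pullback.fst f w' ≫ a₀)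
          (pullback.snd f w')) := by
        rintro _ rfl
        exact isImmersion_lift hL s F hFU hFt _ _ (i j) (hib' j) (θ j) (β j) (hβ j)
      exact key _ (Sigma.ι_desc _ _)
  haveI : QuasiCompact φP := MorphismProperty.of_isPullback hsq inferInstance
  have hov := (isPullback_overMap N g).flip
  have hQ : (@Surjective ⊓ @Flat ⊓ @QuasiCompact : MorphismProperty Scheme.{u}) (overMap N g) :=
    MorphismProperty.of_isPullback hov ⟨⟨‹_›, ‹_›⟩, ‹_›⟩
  haveI := @Groth.Agent.ASp.qcImmersion_descends.{u}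
  have hφi : (@IsImmersion ⊓ @QuasiCompact : MorphismProperty Scheme.{u}) φ :=
    MorphismProperty.of_isPullback_of_descendsAlong (Q := @Surjective ⊓ @Flat ⊓ @QuasiCompact) hsq.flip hQ
      ⟨‹_›, ‹_›⟩
  obtain ⟨ψ, -⟩ := exists_iso_lift hL s F hFU hFt (𝟙 X) φ
    ((ProjMap.liftOver_toInt _ _).trans (Category.id_comp _).symm)
  exact ⟨N, φ, hφi.1, ProjMap.liftOver_toBase _ _,
    ⟨((Scheme.Modules.pullbackId X).app L).symm ≪≫ ψ.symm⟩⟩

end Groth.Agent.RelVADescLib
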